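import Groth.Agent.WeakFieldExtLib.Tensor
import Mathlib.Algebra.TrivSqZeroExt.Basic
import Mathlib.RingTheory.IsTensorProduct

/-!
# Weakly associated primes of a module and extensions of the base field
-/

set_option autoImplicit false

universe u

open AssPointLib TensorProduct

namespace WeakFieldExtLib

variable {k : Type u} [Field k] {A : Type u} [CommRing A] [Algebra k A]

theorem exists_minimal_module (K : Type u) [Field K] [Algebra k K]
    {C : Type u} [CommRing C] [Algebra A C] (e : K ⊗[k] A ≃+* C)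
    (he : ∀ a, e ((1 : K) ⊗ₜ[k] a) = algebraMap A C a)
    {M : Type u} [AddCommGroup M] [Module A M]
    {N : Type u} [AddCommGroup N] [Module A N] [Module C N] [IsScalarTower A C N]
    (f : M →ₗ[A] N) (hf : IsBaseChange C f) {z : N} {q : Ideal C}
    (h : q ∈ (ann C z).minimalPrimes) :
    ∃ m : M, q.comap (algebraMap A C) ∈ (ann A m).minimalPrimes := by
  classical
  letI : Module k M := Module.compHom M (algebraMap k A)
  haveI : IsScalarTower k A M := IsScalarTower.of_algebraMap_smul fun _ _ => rfl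
  letI : Module Aᵐᵒᵖ M := Module.compHom M ((RingHom.id A).fromOpposite mul_comm)
  haveI : IsCentralScalar A M := ⟨fun _ _ => rfl⟩
  letI : Module kᵐᵒᵖ M := Module.compHom M ((RingHom.id k).fromOpposite mul_comm)
  haveI : IsCentralScalar k M := ⟨fun _ _ => rfl⟩
  let B := TrivSqZeroExt A M
  let incl : A →ₐ[k] B := (TrivSqZeroExt.inlAlgHom A A M).restrictScalars k
  let pr : B →ₐ[k] A := (TrivSqZeroExt.fstHom A A M).restrictScalars k
  have hsnd : ∀ x y : B, TrivSqZeroExt.snd (x * y) = TrivSqZeroExt.fst x • TrivSqZeroExt.snd y +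
      TrivSqZeroExt.fst y • TrivSqZeroExt.snd x := fun _ _ => rfl
  have hfst : ∀ x y : B, TrivSqZeroExt.fst (x * y) = TrivSqZeroExt.fst x * TrivSqZeroExt.fst y :=
    fun _ _ => rfl
  let ι : K ⊗[k] A →ₐ[k] K ⊗[k] B := Algebra.TensorProduct.map (AlgHom.id k K) incl
  let π : K ⊗[k] B →ₐ[k] K ⊗[k] A := Algebra.TensorProduct.map (AlgHom.id k K) pr
  have hπι : ∀ c, π (ι c) = c := by
    intro c
    induction c using TensorProduct.induction_on with
    | zero => simp
    | tmul g a =>
      change g ⊗ₜ[k] TrivSqZeroExt.fst (TrivSqZeroExt.inl a : B) = _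
      rw [TrivSqZeroExt.fst_inl]
    | add a b ha hb => rw [map_add, map_add, ha, hb]
  letI : Algebra C (K ⊗[k] B) := ((ι : K ⊗[k] A →+* K ⊗[k] B).comp e.symm.toRingHom).toAlgebra
  letI : Algebra A (K ⊗[k] B) := ((algebraMap C (K ⊗[k] B)).comp (algebraMap A C)).toAlgebra
  haveI : IsScalarTower A C (K ⊗[k] B) := IsScalarTower.of_algebraMap_eq fun _ => rfl
  have hA : ∀ a : A, algebraMap A (K ⊗[k] B) a = (1 : K) ⊗ₜ[k] (TrivSqZeroExt.inl a : B) := by
    intro a
    change ι (e.symm (algebraMap A C a)) = _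
    rw [← he, RingEquiv.symm_apply_apply]
    rfl
  let f' : M →ₗ[A] K ⊗[k] B :=
    { toFun := fun m => (1 : K) ⊗ₜ[k] (TrivSqZeroExt.inr m : B)
      map_add' := fun m n => by rw [TrivSqZeroExt.inr_add, TensorProduct.tmul_add]
      map_smul' := fun a m => by
        rw [RingHom.id_apply, Algebra.smul_def, hA, Algebra.TensorProduct.tmul_mul_tmul, one_mul,
          TrivSqZeroExt.inl_mul_inr] }
  let j : N →ₗ[C] K ⊗[k] B := hf.lift f'
  have hj : ∀ m, j (f m) = (1 : K) ⊗ₜ[k] (TrivSqZeroExt.inr m : B) := fun m =>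
    hf.lift_eq f' m
  have hjs : ∀ (c : K ⊗[k] A) (n : N), ι c * j n = j (e c • n) := fun c n => by
    rw [map_smul, Algebra.smul_def]
    change _ = ι (e.symm (e c)) * _
    rw [RingEquiv.symm_apply_apply]
  have hmul : ∀ (g : K ⊗[k] B) (n : N), g * j n = j (e (π g) • n) := by
    intro g n
    induction n using hf.inductionOn with
    | zero => simp
    | add a b ha hb => rw [map_add, mul_add, ha, hb, smul_add, map_add]
    | smul c n hn =>
      rw [smul_comm, map_smul j c, map_smul j c, ← hn, Algebra.smul_def, Algebra.smul_def]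
      ring
    | tmul m =>
      induction g using TensorProduct.induction_on with
      | zero => simp
      | add a b ha hb => rw [add_mul, ha, hb, map_add, map_add, add_smul, map_add]
      | tmul t b =>
        rw [← hjs, hj]
        change (t ⊗ₜ[k] b) * _ = (t ⊗ₜ[k] (TrivSqZeroExt.inl (TrivSqZeroExt.fst b) : B)) * _
        rw [Algebra.TensorProduct.tmul_mul_tmul, Algebra.TensorProduct.tmul_mul_tmul]
        congr 1
        refine TrivSqZeroExt.ext ?_ ?_ <;> simp [hsnd, hfst]
  -- a retraction of `j`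
  let γ : K →+ B →+ N :=
    { toFun := fun t =>
        { toFun := fun b => e (t ⊗ₜ[k] (1 : A)) • f (TrivSqZeroExt.snd b)
          map_zero' := by simp
          map_add' := fun b b' => by rw [TrivSqZeroExt.snd_add, map_add, smul_add] }
      map_zero' := by ext b; simp
      map_add' := fun t t' => by ext b; simp [TensorProduct.add_tmul, add_smul] }
  have hγ : ∀ (r : k) (t : K) (b : B), γ (r • t) b = γ t (r • b) := fun r t b => by
    change e ((r • t) ⊗ₜ[k] (1 : A)) • f (TrivSqZeroExt.snd b) =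
      e (t ⊗ₜ[k] (1 : A)) • f (TrivSqZeroExt.snd (r • b))
    rw [TrivSqZeroExt.snd_smul, ← algebraMap_smul A r (TrivSqZeroExt.snd b), f.map_smul,
      ← algebraMap_smul C (algebraMap k A r) (f _), ← he, smul_smul, ← map_mul,
      Algebra.TensorProduct.tmul_mul_tmul, mul_one, one_mul, TensorProduct.smul_tmul,
      Algebra.algebraMap_eq_smul_one]
  let ρ : K ⊗[k] B →+ N := TensorProduct.liftAddHom γ hγ
  have hρ : ∀ n, ρ (j n) = n := by
    have key : ∀ (c : K ⊗[k] A) (w : K ⊗[k] B), ρ (ι c * w) = e c • ρ w := by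
      intro c w
      induction c using TensorProduct.induction_on with
      | zero => simp
      | add a b ha hb => rw [map_add, add_mul, map_add, ha, hb, map_add, add_smul]
      | tmul t a =>
        induction w using TensorProduct.induction_on with
        | zero => simp
        | add a' b ha hb => rw [mul_add, map_add, ha, hb, map_add, smul_add]
        | tmul t' b =>
          rw [show ι (t ⊗ₜ[k] a) = t ⊗ₜ[k] (TrivSqZeroExt.inl a : B) from rfl,
            Algebra.TensorProduct.tmul_mul_tmul]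
          change e ((t * t') ⊗ₜ[k] (1 : A)) • f (TrivSqZeroExt.snd ((TrivSqZeroExt.inl a : B) * b)) =
            e (t ⊗ₜ[k] a) • e (t' ⊗ₜ[k] (1 : A)) • f (TrivSqZeroExt.snd b)
          rw [TrivSqZeroExt.snd_mul, TrivSqZeroExt.fst_inl, TrivSqZeroExt.snd_inl, smul_zero, add_zero,
            f.map_smul, ← algebraMap_smul C a (f _), ← he, smul_smul, smul_smul, ← map_mul,
            ← map_mul, Algebra.TensorProduct.tmul_mul_tmul, Algebra.TensorProduct.tmul_mul_tmul,
            one_mul, mul_one, mul_one]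
    intro n
    induction n using hf.inductionOn with
    | zero => simp
    | add a b ha hb => rw [map_add, map_add, ha, hb]
    | tmul m =>
      rw [hj]
      change e ((1 : K) ⊗ₜ[k] (1 : A)) • f (TrivSqZeroExt.snd (TrivSqZeroExt.inr m : B)) = f m
      rw [TrivSqZeroExt.snd_inr, he, map_one, one_smul]
    | smul c n hn =>
      obtain ⟨c, rfl⟩ := e.surjective c
      rw [← hjs, key, hn]
  haveI := h.1.1
  obtain ⟨hle, hex⟩ := minimal_iff.mp h
  let Ψ : K ⊗[k] B →+* C := e.toRingHom.comp π.toRingHom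
  haveI : (q.comap Ψ).IsPrime := Ideal.IsPrime.comap _
  have hmin : q.comap Ψ ∈ (ann (K ⊗[k] B) (j z)).minimalPrimes := by
    refine minimal_iff.mpr ⟨fun g hg => hle ((mem_ann _).mpr ?_), fun g hg => ?_⟩
    · have h0 : j (e (π g) • z) = 0 := (hmul g z).symm.trans ((mem_ann _).mp hg)
      rw [← hρ (Ψ g • z)]
      exact (congr_arg ρ h0).trans (map_zero _)
    · obtain ⟨t, ht, n, hn⟩ := hex _ hg
      refine ⟨ι (e.symm t), ?_, n, (mem_ann _).mpr ?_⟩
      · change ¬ e (π (ι (e.symm t))) ∈ q
        rw [hπι, RingEquiv.apply_symm_apply]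
        exact ht
      · rw [smul_eq_mul, mul_assoc, hmul, map_pow, map_pow, hjs, smul_smul,
          RingEquiv.apply_symm_apply]
        exact (congr_arg j ((mem_ann _).mp hn)).trans (map_zero _)
  let I : Ideal B := RingHom.ker (pr : B →+* A)
  have hz : j z ∈ I.map (Algebra.TensorProduct.includeRight : B →ₐ[k] K ⊗[k] B).toRingHom := by
    clear hmin h hle hex
    induction z using hf.inductionOn with
    | zero => rw [map_zero]; exact zero_mem _
    | add a b ha hb => rw [map_add]; exact add_mem ha hb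
    | smul c n hn => rw [map_smul, Algebra.smul_def]; exact Ideal.mul_mem_left _ _ hn
    | tmul m => rw [hj]; exact Ideal.mem_map_of_mem _ (TrivSqZeroExt.fst_inr A m)
  obtain ⟨b, hb, hbmin⟩ := exists_minimal K I hz hmin
  obtain ⟨hb1, hb2⟩ := (minimal_iff (hp := Ideal.IsPrime.comap _)).mp hbmin
  have hb0 : TrivSqZeroExt.fst b = 0 := hb
  have hmemq : ∀ c : B, c ∈ (q.comap Ψ).comap
      (Algebra.TensorProduct.includeRight : B →ₐ[k] K ⊗[k] B).toRingHom ↔
      TrivSqZeroExt.fst c ∈ q.comap (algebraMap A C) := fun c => by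
    change e ((1 : K) ⊗ₜ[k] TrivSqZeroExt.fst c) ∈ q ↔ _
    rw [he]; rfl
  have hann : ∀ c : B, c • b = 0 ↔ TrivSqZeroExt.fst c • TrivSqZeroExt.snd b = 0 := fun c => by
    constructor
    · intro h0
      have := congr_arg TrivSqZeroExt.snd h0
      simpa [hb0, hsnd] using this
    · intro h0
      refine TrivSqZeroExt.ext ?_ ?_ <;> simp [hb0, h0, hsnd, hfst]
  refine ⟨TrivSqZeroExt.snd b, minimal_iff.mpr ⟨fun a ha => ?_, fun a ha => ?_⟩⟩
  · have := (hmemq (TrivSqZeroExt.inl a)).mp (hb1 ((hann (TrivSqZeroExt.inl a)).mpr (by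
      rw [TrivSqZeroExt.fst_inl]; exact ha)))
    rwa [TrivSqZeroExt.fst_inl] at this
  · obtain ⟨t, ht, n, hn⟩ := hb2 (TrivSqZeroExt.inl a) ((hmemq _).mpr (by rwa [TrivSqZeroExt.fst_inl]))
    refine ⟨TrivSqZeroExt.fst t, fun h' => ht ((hmemq t).mpr h'), n, ?_⟩
    have := (hann (t * TrivSqZeroExt.inl a ^ n)).mp ((mem_ann _).mp hn)
    rwa [TrivSqZeroExt.fst_mul, TrivSqZeroExt.fst_pow, TrivSqZeroExt.fst_inl] at this

end WeakFieldExtLib
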