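import Groth.Agent.AssPointLib.Alg
import Mathlib.RingTheory.Polynomial.Basic
import Mathlib.Algebra.MvPolynomial.NoZeroDivisors
import Mathlib.Algebra.Group.UniqueProds.Basic

/-!
# Weakly associated primes of a polynomial ring descend to the coefficient ring
-/

set_option autoImplicit false

universe u v

open MvPolynomial AssPointLib

namespace WeakFieldExtLib

variable {A : Type u} [CommRing A] {σ : Type v}

/-- A prime minimal over a finite intersection is minimal over one of the members. -/
theorem minimal_finset_inf {ι : Type*} {s : Finset ι} {J : ι → Ideal A} {p : Ideal A}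
    (h : p ∈ (s.inf J).minimalPrimes) : ∃ i ∈ s, p ∈ (J i).minimalPrimes := by
  obtain ⟨i, hi, hle⟩ := (h.1.1.inf_le' (s := s) (f := J)).mp h.1.2
  exact ⟨i, hi, ⟨h.1.1, hle⟩, fun q hq hqp => h.2 ⟨hq.1, (Finset.inf_le hi).trans hq.2⟩ hqp⟩

theorem not_mul_mem {P : Ideal A} (hP : P.IsPrime) {a b : A} (ha : a ∉ P) (hb : b ∉ P) : a * b ∉ P :=
  fun h => (hP.mem_or_mem h).elim ha hb

/-- A polynomial whose coefficients are all units at `P` is regular at `P`. -/
theorem regular_aux (P : Ideal A) [hP : P.IsPrime] {g : MvPolynomial σ A} (hg0 : g ≠ 0)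
    (hg : ∀ d ∈ g.support, g.coeff d ∉ P) :
    ∀ (n : ℕ) (v : MvPolynomial σ A), v.support.card ≤ n → (∃ t, t ∉ P ∧ C t * (g * v) = 0) →
      ∃ t, t ∉ P ∧ C t * v = 0 := by
  classical
  intro n
  induction n with
  | zero =>
    intro v hv _
    have hv0 : v = 0 := support_eq_empty.mp (Finset.card_eq_zero.mp (by omega))
    exact ⟨1, (Ideal.ne_top_iff_one P).mp hP.ne_top, by rw [hv0, mul_zero]⟩
  | succ n ih =>
    intro v hv ⟨t, ht, htv⟩
    by_cases hv0 : v = 0
    · exact ⟨1, (Ideal.ne_top_iff_one P).mp hP.ne_top, by rw [hv0, mul_zero]⟩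
    obtain ⟨a, ha, b, hb, hab⟩ := UniqueSums.uniqueAdd_of_nonempty
      (support_nonempty.mpr hg0) (support_nonempty.mpr hv0)
    have hc : t * (g.coeff a * v.coeff b) = 0 := by
      have h := congr_arg (coeff (a + b)) htv
      rw [coeff_C_mul, coeff_zero, coeff_mul, Finset.sum_eq_single (a, b)] at h
      · exact h
      · rintro ⟨i, j⟩ hij hne
        by_contra h0
        have hi : i ∈ g.support := mem_support_iff.mpr fun h' => h0 (by simp [h'])
        have hj : j ∈ v.support := mem_support_iff.mpr fun h' => h0 (by simp [h'])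
        obtain ⟨h1, h2⟩ := hab hi hj (Finset.mem_antidiagonal.mp hij)
        exact hne (by rw [h1, h2])
      · exact fun h' => absurd (Finset.mem_antidiagonal.mpr (rfl : (a, b).1 + (a, b).2 = a + b)) h'
    have ht' : t * g.coeff a ∉ P := not_mul_mem hP ht (hg a ha)
    have hsub : (C (t * g.coeff a) * v).support ⊆ v.support.erase b := fun d hd => by
      rw [mem_support_iff, coeff_C_mul] at hd
      refine Finset.mem_erase.mpr ⟨fun h => hd ?_, mem_support_iff.mpr fun h => hd (by rw [h, mul_zero])⟩
      rw [h, mul_assoc, hc]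
    have hcard := (Finset.card_le_card hsub).trans (Finset.card_erase_of_mem hb).le
    obtain ⟨s, hs, hsv⟩ := ih (C (t * g.coeff a) * v) (by omega) ⟨t, ht, by
      rw [show C t * (g * (C (t * g.coeff a) * v)) = C (t * g.coeff a) * (C t * (g * v)) by ring,
        htv, mul_zero]⟩
    exact ⟨s * (t * g.coeff a), not_mul_mem hP hs ht', by rw [map_mul, mul_assoc, hsv]⟩

/-- A prime of `A[T]` minimal over the annihilator of a polynomial contracts to a prime minimal
over the annihilator of one of its coefficients. -/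
theorem exists_coeff_minimal (w : MvPolynomial σ A) (q : Ideal (MvPolynomial σ A))
    (h : q ∈ (ann (MvPolynomial σ A) w).minimalPrimes) :
    ∃ d, q.comap C ∈ (ann A (w.coeff d)).minimalPrimes := by
  classical
  haveI := h.1.1
  have hJ : w.support.inf (fun d => ann A (w.coeff d)) ≤ q.comap C := fun a ha => by
    refine h.1.2 ((mem_ann _).mpr (MvPolynomial.ext _ _ fun d => ?_))
    rw [smul_eq_mul, coeff_C_mul, coeff_zero]
    by_cases hd : d ∈ w.support
    · exact (mem_ann A).mp (Submodule.mem_finsetInf.mp ha d hd)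
    · rw [notMem_support_iff.mp hd, mul_zero]
  haveI : (q.comap C).IsPrime := Ideal.IsPrime.comap _
  obtain ⟨P, hP, hPp⟩ := Ideal.exists_minimalPrimes_le hJ
  haveI := hP.1.1
  obtain ⟨-, hex⟩ := minimal_iff.mp hP
  have hPT : P.map (C : A →+* MvPolynomial σ A) ≤ q := Ideal.map_le_iff_le_comap.mpr hPp
  -- `P[T]` contains the annihilator
  let Z : Ideal (MvPolynomial σ A) :=
    { carrier := {g | ∃ t, t ∉ P ∧ C t * (g * w) = 0}
      add_mem' := by
        rintro a b ⟨t, ht, hta⟩ ⟨s, hs, hsb⟩
        refine ⟨t * s, not_mul_mem hP.1.1 ht hs, ?_⟩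
        rw [map_mul, show C t * C s * ((a + b) * w) = C s * (C t * (a * w)) + C t * (C s * (b * w)) by ring,
          hta, hsb, mul_zero, mul_zero, add_zero]
      zero_mem' := ⟨1, (Ideal.ne_top_iff_one P).mp hP.1.1.ne_top, by rw [zero_mul, mul_zero]⟩
      smul_mem' := by
        rintro c a ⟨t, ht, hta⟩
        exact ⟨t, ht, by rw [smul_eq_mul, show C t * (c * a * w) = c * (C t * (a * w)) by ring, hta,
          mul_zero]⟩ }
  have hC : ∀ a ∈ P, (C a : MvPolynomial σ A) ∈ Z.radical := fun a ha => by
    obtain ⟨t, ht, n, hn⟩ := hex a ha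
    refine ⟨n, t, ht, ?_⟩
    refine MvPolynomial.ext _ _ fun d => ?_
    rw [← map_pow, ← mul_assoc, ← map_mul, coeff_C_mul, coeff_zero]
    by_cases hd : d ∈ w.support
    · exact (mem_ann A).mp (Submodule.mem_finsetInf.mp hn d hd)
    · rw [notMem_support_iff.mp hd, mul_zero]
  have hle : ann (MvPolynomial σ A) w ≤ P.map C := fun g hg => by
    by_contra hgP
    rw [mem_map_C_iff] at hgP
    simp only [not_forall] at hgP
    obtain ⟨d₀, hd₀⟩ := hgP
    let g' : MvPolynomial σ A := ∑ d ∈ g.support.filter (fun d => g.coeff d ∉ P), monomial d (g.coeff d)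
    let h' : MvPolynomial σ A := ∑ d ∈ g.support.filter (fun d => ¬ g.coeff d ∉ P), monomial d (g.coeff d)
    have hsplit : g' + h' = g :=
      (Finset.sum_filter_add_sum_filter_not _ _ _).trans (support_sum_monomial_coeff g)
    have hh' : h' ∈ Z.radical := sum_mem fun d hd => by
      rw [show monomial d (g.coeff d) = C (g.coeff d) * monomial d (1 : A) by
        rw [C_mul_monomial, mul_one]]
      exact Ideal.mul_mem_right _ _ (hC _ (not_not.mp (Finset.mem_filter.mp hd).2))
    have hgZ : g ∈ Z := ⟨1, (Ideal.ne_top_iff_one P).mp hP.1.1.ne_top, by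
      rw [show g * w = 0 from (mem_ann _).mp hg, mul_zero]⟩
    obtain ⟨N, hN⟩ : g' ∈ Z.radical := by
      rw [show g' = g - h' by rw [← hsplit, add_sub_cancel_right]]
      exact sub_mem (Ideal.le_radical hgZ) hh'
    have hcoeff : ∀ d, g'.coeff d = if g.coeff d ∉ P then g.coeff d else 0 := fun d => by
      simp only [g', coeff_sum, coeff_monomial, Finset.sum_ite_eq', Finset.mem_filter, mem_support_iff]
      by_cases hd : g.coeff d = 0
      · simp [hd]
      · simp [hd]
    have hg'0 : g' ≠ 0 := fun h0 => by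
      have := hcoeff d₀
      rw [h0, coeff_zero, if_pos hd₀] at this
      exact hd₀ (this ▸ P.zero_mem)
    have hg'P : ∀ d ∈ g'.support, g'.coeff d ∉ P := fun d hd => by
      rw [mem_support_iff, hcoeff] at hd
      rw [hcoeff]
      split_ifs at hd ⊢ with hc
      · exact absurd rfl hd
      · exact hc
    have key : ∀ (N : ℕ) (v : MvPolynomial σ A), (∃ t, t ∉ P ∧ C t * (g' ^ N * v) = 0) →
        ∃ t, t ∉ P ∧ C t * v = 0 := by
      intro N
      induction N with
      | zero => intro v hv; simpa using hv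
      | succ N ih =>
        intro v ⟨t, ht, htv⟩
        refine regular_aux P hg'0 hg'P v.support.card v le_rfl ?_
        exact ih (g' * v) ⟨t, ht, by rw [← mul_assoc (g' ^ N), ← pow_succ, htv]⟩
    obtain ⟨t, ht, htw⟩ := key N w hN
    refine ht (hP.1.2 (Submodule.mem_finsetInf.mpr fun d _ => (mem_ann A).mpr ?_))
    rw [smul_eq_mul, ← coeff_C_mul, htw, coeff_zero]
  have hprime : (P.map (C : A →+* MvPolynomial σ A)).IsPrime := by
    have hk : RingHom.ker (MvPolynomial.map (σ := σ) (Ideal.Quotient.mk P)) = P.map C := by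
      rw [MvPolynomial.ker_map, Ideal.mk_ker]
    exact hk ▸ RingHom.ker_isPrime _
  have hq : q ≤ P.map C := h.2 ⟨hprime, hle⟩ hPT
  have hpP : q.comap C = P := le_antisymm (fun a ha => by
    have := mem_map_C_iff.mp (hq ha) 0
    rwa [coeff_zero_C] at this) hPp
  obtain ⟨d, -, hd⟩ := minimal_finset_inf hP
  exact ⟨d, hpP.symm ▸ hd⟩

end WeakFieldExtLib
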