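import Groth.Agent.WeakFieldExtLib.Poly
import Mathlib.RingTheory.TensorProduct.MvPolynomial
import Mathlib.RingTheory.AlgebraicIndependent.TranscendenceBasis
import Mathlib.FieldTheory.IntermediateField.Adjoin.Basic
import Mathlib.RingTheory.QuasiFinite.Basic
import Mathlib.LinearAlgebra.DirectSum.Finsupp
import Mathlib.RingTheory.Flat.Basic

/-!
# Weakly associated primes and extensions of the base field
-/

set_option autoImplicit false

universe u v w

open AssPointLib TensorProduct

namespace WeakFieldExtLib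

variable {k : Type u} [Field k] {A : Type u} [CommRing A] [Algebra k A]
  {F G : Type u} [Field F] [Field G] [Algebra k F] [Algebra k G] [Algebra F G] [IsScalarTower k F G]

variable (A) in
/-- The map `F ⊗ A → G ⊗ A`. -/
noncomputable def inclMap : F ⊗[k] A →ₐ[k] G ⊗[k] A :=
  Algebra.TensorProduct.map (IsScalarTower.toAlgHom k F G) (AlgHom.id k A)

theorem inclMap_tmul (c : F) (a : A) :
    inclMap A (G := G) (c ⊗ₜ[k] a) = algebraMap F G c ⊗ₜ[k] a := rfl

variable {ι : Type w} (e : Module.Basis ι F G)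

variable (A) in
/-- The coordinates of an element of `G ⊗ A` over `F ⊗ A`. -/
noncomputable def coord (l : ι) : G ⊗[k] A →ₗ[k] F ⊗[k] A :=
  TensorProduct.map ((e.coord l).restrictScalars k) LinearMap.id

theorem coord_tmul (l : ι) (g : G) (a : A) :
    coord A e l (g ⊗ₜ[k] a) = e.repr g l ⊗ₜ[k] a := rfl

theorem coord_mul_inclMap (l : ι) (c : G ⊗[k] A) (x : F ⊗[k] A) :
    coord A e l (c * inclMap A x) = coord A e l c * x := by
  induction c using TensorProduct.induction_on with
  | zero => simp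
  | add a b ha hb => rw [add_mul, map_add, ha, hb, map_add, add_mul]
  | tmul g a =>
    induction x using TensorProduct.induction_on with
    | zero => simp
    | add x y hx hy => rw [map_add, mul_add, map_add, hx, hy, mul_add]
    | tmul f b =>
      rw [inclMap_tmul, Algebra.TensorProduct.tmul_mul_tmul, coord_tmul, coord_tmul,
        Algebra.TensorProduct.tmul_mul_tmul, mul_comm g, ← Algebra.smul_def, map_smul,
        Finsupp.smul_apply, smul_eq_mul, mul_comm f]

theorem exists_expand (t : G ⊗[k] A) : ∃ s : Finset ι, ∀ s', s ⊆ s' →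
    t = ∑ l ∈ s', (e l ⊗ₜ[k] (1 : A)) * inclMap A (coord A e l t) := by
  classical
  induction t using TensorProduct.induction_on with
  | zero => exact ⟨∅, fun s' _ => by simp⟩
  | add a b ha hb =>
    obtain ⟨s, hs⟩ := ha
    obtain ⟨r, hr⟩ := hb
    refine ⟨s ∪ r, fun s' h => ?_⟩
    conv_lhs => rw [hs s' (Finset.subset_union_left.trans h), hr s' (Finset.subset_union_right.trans h)]
    simp only [map_add, mul_add, Finset.sum_add_distrib]
  | tmul g a =>
    refine ⟨(e.repr g).support, fun s' h => ?_⟩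
    have hg : g = ∑ l ∈ s', e.repr g l • e l := by
      conv_lhs => rw [← e.linearCombination_repr g]
      rw [Finsupp.linearCombination_apply, Finsupp.sum]
      exact Finset.sum_subset h fun l _ hl => by rw [Finsupp.notMem_support_iff.mp hl, zero_smul]
    conv_lhs => rw [hg, TensorProduct.sum_tmul]
    refine Finset.sum_congr rfl fun l _ => ?_
    rw [coord_tmul, inclMap_tmul, Algebra.TensorProduct.tmul_mul_tmul, one_mul, Algebra.smul_def,
      mul_comm]

theorem coord_mem (I : Ideal A) (l : ι) {z : G ⊗[k] A}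
    (hz : z ∈ I.map (Algebra.TensorProduct.includeRight : A →ₐ[k] G ⊗[k] A).toRingHom) :
    coord A e l z ∈ I.map (Algebra.TensorProduct.includeRight : A →ₐ[k] F ⊗[k] A).toRingHom := by
  rw [Ideal.map] at hz
  induction hz using Submodule.span_induction generalizing l with
  | mem x hx =>
    obtain ⟨b, hb, rfl⟩ := hx
    rw [show ((Algebra.TensorProduct.includeRight : A →ₐ[k] G ⊗[k] A).toRingHom b) =
      (1 : G) ⊗ₜ[k] b from rfl, coord_tmul,
      show e.repr 1 l ⊗ₜ[k] b = (e.repr 1 l ⊗ₜ[k] (1 : A)) *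
        (Algebra.TensorProduct.includeRight : A →ₐ[k] F ⊗[k] A).toRingHom b by
        simp [Algebra.TensorProduct.tmul_mul_tmul]]
    exact Ideal.mul_mem_left _ _ (Ideal.mem_map_of_mem _ hb)
  | zero => rw [map_zero]; exact zero_mem _
  | add x y _ _ hx hy => rw [map_add]; exact add_mem (hx l) (hy l)
  | smul c x _ hx =>
    classical
    obtain ⟨s, hs⟩ := exists_expand (A := A) e x
    rw [smul_eq_mul, hs s le_rfl, Finset.mul_sum, map_sum]
    refine sum_mem fun m _ => ?_
    rw [← mul_assoc, coord_mul_inclMap]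
    exact Ideal.mul_mem_left _ _ (hx m)

/-- Descent along the free extension `F ⊗ A → G ⊗ A`. -/
theorem minimal_comap_incl {z' : F ⊗[k] A} {q : Ideal (G ⊗[k] A)}
    (h : q ∈ (ann (G ⊗[k] A) (inclMap A z' : G ⊗[k] A)).minimalPrimes) :
    q.comap (inclMap A : F ⊗[k] A →ₐ[k] G ⊗[k] A).toRingHom ∈ (ann (F ⊗[k] A) z').minimalPrimes := by
  classical
  let e := Module.Free.chooseBasis F G
  haveI := h.1.1
  obtain ⟨hle, hex⟩ := minimal_iff.mp h
  haveI : (q.comap (inclMap A : F ⊗[k] A →ₐ[k] G ⊗[k] A).toRingHom).IsPrime := Ideal.IsPrime.comap _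
  refine minimal_iff.mpr ⟨fun a ha => hle ((mem_ann _).mpr ?_), fun a ha => ?_⟩
  · change inclMap A a * inclMap A z' = 0
    rw [← map_mul, show a * z' = 0 from (mem_ann _).mp ha, map_zero]
  · obtain ⟨t, ht, n, hn⟩ := hex _ ha
    obtain ⟨s, hs⟩ := exists_expand (A := A) e t
    obtain ⟨l, -, hl⟩ : ∃ l ∈ s, inclMap A (coord A e l t) ∉ q := by
      by_contra hc
      simp only [not_exists, not_and, not_not] at hc
      refine ht ?_
      rw [hs s le_rfl]
      exact sum_mem fun l hl => Ideal.mul_mem_left _ _ (hc l hl)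
    refine ⟨coord A e l t, hl, n, (mem_ann _).mpr ?_⟩
    have h1 : t * inclMap A (a ^ n * z') = 0 := by
      rw [map_mul, map_pow, ← mul_assoc]
      exact (mem_ann _).mp hn
    rw [smul_eq_mul, mul_assoc, ← coord_mul_inclMap, h1, map_zero]

/-- Descent along a finite field extension. -/
theorem exists_minimal_finite [FiniteDimensional F G] (I : Ideal A) {z : G ⊗[k] A}
    (hz : z ∈ I.map (Algebra.TensorProduct.includeRight : A →ₐ[k] G ⊗[k] A).toRingHom)
    {q : Ideal (G ⊗[k] A)} (h : q ∈ (ann (G ⊗[k] A) z).minimalPrimes) :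
    ∃ y : F ⊗[k] A, y ∈ I.map (Algebra.TensorProduct.includeRight : A →ₐ[k] F ⊗[k] A).toRingHom ∧
      q.comap (inclMap A : F ⊗[k] A →ₐ[k] G ⊗[k] A).toRingHom ∈ (ann (F ⊗[k] A) y).minimalPrimes := by
  classical
  let e := Module.finBasis F G
  letI : Algebra (F ⊗[k] A) (G ⊗[k] A) := (inclMap A : F ⊗[k] A →ₐ[k] G ⊗[k] A).toRingHom.toAlgebra
  haveI : Module.Finite (F ⊗[k] A) (G ⊗[k] A) := by
    refine ⟨⟨Finset.univ.image fun l => e l ⊗ₜ[k] (1 : A), ?_⟩⟩
    rw [eq_top_iff]
    intro t _
    obtain ⟨s, hs⟩ := exists_expand (A := A) e t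
    rw [hs s le_rfl]
    refine sum_mem fun l _ => ?_
    rw [mul_comm]
    exact Submodule.smul_mem _ (coord A e l t) (Submodule.subset_span (by simp))
  haveI : Algebra.IsIntegral (F ⊗[k] A) (G ⊗[k] A) := Algebra.IsIntegral.of_finite _ _
  haveI := h.1.1
  obtain ⟨m, hm⟩ := comap_minimal_of_integral (R := F ⊗[k] A) (N := Ideal.map
      (Algebra.TensorProduct.includeRight : A →ₐ[k] G ⊗[k] A).toRingHom I) (m := ⟨z, hz⟩) (Q := q)
    (by
      have he : ann (G ⊗[k] A) (⟨z, hz⟩ : Ideal.map
          (Algebra.TensorProduct.includeRight : A →ₐ[k] G ⊗[k] A).toRingHom I) = ann (G ⊗[k] A) z := by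
        ext c
        simp only [mem_ann, Subtype.ext_iff]
        exact Iff.rfl
      rw [he]; exact h)
    ((Algebra.QuasiFinite.finite_primesOver (R := F ⊗[k] A) (S := G ⊗[k] A) (q.comap _)).subset
      fun P hP => ⟨hP.1, ⟨hP.2.symm⟩⟩)
  have hsucc : (ann (G ⊗[k] A) m).comap (algebraMap (F ⊗[k] A) (G ⊗[k] A)) =
      Finset.univ.inf fun l => ann (F ⊗[k] A) (coord A e l m.1) := by
    ext a
    simp only [Ideal.mem_comap, mem_ann, Submodule.mem_finsetInf, Finset.mem_univ, forall_true_left,
      Subtype.ext_iff, smul_eq_mul]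
    change inclMap A a * m.1 = 0 ↔ _
    constructor
    · intro h0 l
      rw [mul_comm a, ← coord_mul_inclMap, mul_comm, h0, map_zero]
    · intro h0
      obtain ⟨s, hs⟩ := exists_expand (A := A) e m.1
      rw [hs s le_rfl, Finset.mul_sum]
      refine Finset.sum_eq_zero fun l _ => ?_
      rw [mul_left_comm, ← map_mul, h0 l, map_zero, mul_zero]
  rw [hsucc] at hm
  obtain ⟨l, -, hl⟩ := minimal_finset_inf hm
  exact ⟨coord A e l m.1, coord_mem e I l m.2, hl⟩

/-- Descent along a purely transcendental field extension. -/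
theorem exists_minimal_transcendental {σ : Type v} (x : σ → F) (hx : AlgebraicIndependent k x)
    (hgen : ∀ c : F, ∃ p d : MvPolynomial σ k, d ≠ 0 ∧ c * MvPolynomial.aeval x d = MvPolynomial.aeval x p)
    (I : Ideal A) {y : F ⊗[k] A}
    (hy : y ∈ I.map (Algebra.TensorProduct.includeRight : A →ₐ[k] F ⊗[k] A).toRingHom)
    {q : Ideal (F ⊗[k] A)} (h : q ∈ (ann (F ⊗[k] A) y).minimalPrimes) :
    ∃ b ∈ I, q.comap (Algebra.TensorProduct.includeRight : A →ₐ[k] F ⊗[k] A).toRingHom ∈
      (ann A b).minimalPrimes := by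
  classical
  let φ : MvPolynomial σ A →+* F ⊗[k] A :=
    MvPolynomial.eval₂Hom (Algebra.TensorProduct.includeRight : A →ₐ[k] F ⊗[k] A).toRingHom
      fun i => x i ⊗ₜ[k] 1
  have hE : ∀ (a : A) (p : MvPolynomial σ k),
      φ (MvPolynomial.C a * MvPolynomial.map (algebraMap k A) p) = MvPolynomial.aeval x p ⊗ₜ[k] a := by
    intro a p
    induction p using MvPolynomial.induction_on with
    | C r =>
      simp only [φ, MvPolynomial.map_C, map_mul, MvPolynomial.eval₂Hom_C, MvPolynomial.aeval_C]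
      change ((1 : F) ⊗ₜ[k] a) * ((1 : F) ⊗ₜ[k] algebraMap k A r) = _
      rw [Algebra.TensorProduct.tmul_mul_tmul, one_mul, mul_comm a, ← Algebra.smul_def,
        TensorProduct.tmul_smul, TensorProduct.smul_tmul', ← Algebra.algebraMap_eq_smul_one]
    | add p p' hp hp' => rw [map_add, mul_add, map_add, hp, hp', map_add, TensorProduct.add_tmul]
    | mul_X p i hp =>
      rw [map_mul (MvPolynomial.map (algebraMap k A)), MvPolynomial.map_X, ← mul_assoc, map_mul φ, hp,
        map_mul (MvPolynomial.aeval x), MvPolynomial.aeval_X,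
        show φ (MvPolynomial.X i) = x i ⊗ₜ[k] (1 : A) from MvPolynomial.eval₂Hom_X' _ _ i,
        Algebra.TensorProduct.tmul_mul_tmul, mul_one]
  have hinj : Function.Injective φ := by
    let E := MvPolynomial.algebraTensorAlgEquiv (σ := σ) k A
    have hfac : ∀ u : A ⊗[k] MvPolynomial σ k, φ (E u) = TensorProduct.comm k A F
        ((MvPolynomial.aeval x : MvPolynomial σ k →ₐ[k] F).toLinearMap.lTensor A u) := by
      intro u
      induction u using TensorProduct.induction_on with
      | zero => simp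
      | add u v hu hv => rw [map_add, map_add, hu, hv, map_add, map_add]
      | tmul a p =>
        rw [LinearMap.lTensor_tmul, TensorProduct.comm_tmul]
        refine Eq.trans (congr_arg φ ?_) (hE a p)
        simp [E, MvPolynomial.algebraTensorAlgEquiv_tmul, MvPolynomial.smul_eq_C_mul]
    intro u v huv
    obtain ⟨u', rfl⟩ := E.surjective u
    obtain ⟨v', rfl⟩ := E.surjective v
    rw [hfac, hfac] at huv
    exact congr_arg E (Module.Flat.lTensor_preserves_injective_linearMap (M := A)
      (MvPolynomial.aeval x : MvPolynomial σ k →ₐ[k] F).toLinearMap hx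
      ((TensorProduct.comm k A F).injective huv))
  have hd : ∀ d : MvPolynomial σ k, d ≠ 0 → IsUnit (φ (MvPolynomial.map (algebraMap k A) d)) := by
    intro d hd
    have := hE 1 d
    rw [map_one, one_mul] at this
    rw [this]
    exact (isUnit_iff_ne_zero.mpr fun h0 => hd (hx (h0.trans (map_zero _).symm))).map
      (Algebra.TensorProduct.includeLeft : F →ₐ[k] F ⊗[k] A)
  have hclear : ∀ c : F ⊗[k] A, ∃ (d : MvPolynomial σ k) (w : MvPolynomial σ A),
      d ≠ 0 ∧ c * φ (MvPolynomial.map (algebraMap k A) d) = φ w := by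
    intro c
    induction c using TensorProduct.induction_on with
    | zero => exact ⟨1, 0, one_ne_zero, by simp⟩
    | tmul g a =>
      obtain ⟨p, d, hd0, hpd⟩ := hgen g
      refine ⟨d, MvPolynomial.C a * MvPolynomial.map (algebraMap k A) p, hd0, ?_⟩
      have := hE 1 d
      rw [map_one, one_mul] at this
      rw [this, hE, Algebra.TensorProduct.tmul_mul_tmul, mul_one, hpd]
    | add c c' hc hc' =>
      obtain ⟨d, w, hd0, hw⟩ := hc
      obtain ⟨d', w', hd0', hw'⟩ := hc'
      refine ⟨d * d', w * MvPolynomial.map (algebraMap k A) d' + w' * MvPolynomial.map (algebraMap k A) d,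
        mul_ne_zero hd0 hd0', ?_⟩
      rw [map_add, map_mul, map_mul, map_mul, map_mul, ← hw, ← hw']
      ring
  obtain ⟨d, w, hd0, hw, hwI⟩ : ∃ (d : MvPolynomial σ k) (w : MvPolynomial σ A), d ≠ 0 ∧
      y * φ (MvPolynomial.map (algebraMap k A) d) = φ w ∧ w ∈ I.map MvPolynomial.C := by
    clear h
    rw [Ideal.map] at hy
    induction hy using Submodule.span_induction with
    | mem c hc =>
      obtain ⟨b, hb, rfl⟩ := hc
      exact ⟨1, MvPolynomial.C b, one_ne_zero, by simp [φ, MvPolynomial.eval₂Hom_C],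
        Ideal.mem_map_of_mem _ hb⟩
    | zero => exact ⟨1, 0, one_ne_zero, by simp, zero_mem _⟩
    | add c c' _ _ hc hc' =>
      obtain ⟨d, w, hd0, hw, hwI⟩ := hc
      obtain ⟨d', w', hd0', hw', hwI'⟩ := hc'
      refine ⟨d * d', w * MvPolynomial.map (algebraMap k A) d' + w' * MvPolynomial.map (algebraMap k A) d,
        mul_ne_zero hd0 hd0', ?_, add_mem (Ideal.mul_mem_right _ _ hwI) (Ideal.mul_mem_right _ _ hwI')⟩
      rw [map_add, map_mul, map_mul, map_mul, map_mul, ← hw, ← hw']
      ring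
    | smul a c _ hc =>
      obtain ⟨d, w, hd0, hw, hwI⟩ := hc
      obtain ⟨d', w', hd0', hw'⟩ := hclear a
      refine ⟨d' * d, w' * w, mul_ne_zero hd0' hd0, ?_, Ideal.mul_mem_left _ _ hwI⟩
      rw [map_mul, map_mul, map_mul, ← hw, ← hw', smul_eq_mul]
      ring
  haveI := h.1.1
  obtain ⟨hle, hex⟩ := minimal_iff.mp h
  haveI : (q.comap φ).IsPrime := Ideal.IsPrime.comap _
  have hmin : q.comap φ ∈ (ann (MvPolynomial σ A) w).minimalPrimes := by
    refine minimal_iff.mpr ⟨fun a ha => hle ((mem_ann _).mpr ((hd d hd0).mul_left_eq_zero.mp ?_)),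
      fun a ha => ?_⟩
    · rw [smul_eq_mul, mul_assoc, hw, ← map_mul, show a * w = 0 from (mem_ann _).mp ha, map_zero]
    · obtain ⟨t, ht, n, hn⟩ := hex _ ha
      obtain ⟨d', t', hd0', ht'⟩ := hclear t
      refine ⟨t', fun h' => ?_, n, (mem_ann _).mpr (hinj ?_)⟩
      · rw [Ideal.mem_comap, ← ht'] at h'
        exact ((h.1.1.mem_or_mem h').resolve_left ht |> fun hu =>
          h.1.1.ne_top (Ideal.eq_top_of_isUnit_mem _ hu (hd d' hd0')))
      · have h0 : t * φ a ^ n * y = 0 := (mem_ann _).mp hn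
        rw [smul_eq_mul, map_mul, map_mul, map_pow, ← hw, ← ht', map_zero]
        linear_combination (φ (MvPolynomial.map (algebraMap k A) d') *
          φ (MvPolynomial.map (algebraMap k A) d)) * h0
  obtain ⟨m, hm⟩ := exists_coeff_minimal w _ hmin
  refine ⟨w.coeff m, MvPolynomial.mem_map_C_iff.mp hwI m, ?_⟩
  convert hm using 1
  rw [Ideal.comap_comap]
  congr 1
  exact RingHom.ext fun a => (MvPolynomial.eval₂Hom_C _ _ a).symm

/-- A prime of `K ⊗ A` minimal over the annihilator of an element of `I (K ⊗ A)` contracts to a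
prime of `A` minimal over the annihilator of an element of `I`. -/
theorem exists_minimal (K : Type u) [Field K] [Algebra k K] (I : Ideal A) {z : K ⊗[k] A}
    (hz : z ∈ I.map (Algebra.TensorProduct.includeRight : A →ₐ[k] K ⊗[k] A).toRingHom)
    {q : Ideal (K ⊗[k] A)} (h : q ∈ (ann (K ⊗[k] A) z).minimalPrimes) :
    ∃ b ∈ I, q.comap (Algebra.TensorProduct.includeRight : A →ₐ[k] K ⊗[k] A).toRingHom ∈
      (ann A b).minimalPrimes := by
  classical
  obtain ⟨σ, x, hx⟩ := exists_isTranscendenceBasis' k K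
  let L := IntermediateField.adjoin k (Set.range x)
  haveI : Algebra.IsAlgebraic L K := hx.isAlgebraic_field
  haveI : ∀ L' : IntermediateField L K, IsScalarTower k L' K := fun _ =>
    IsScalarTower.of_algebraMap_eq fun _ => rfl
  haveI : ∀ L' : IntermediateField L K, IsScalarTower k L L' := fun _ =>
    IsScalarTower.of_algebraMap_eq fun _ => rfl
  obtain ⟨L', hfin, z', hz', hzz'⟩ : ∃ L' : IntermediateField L K, FiniteDimensional L L' ∧
      ∃ z' : L' ⊗[k] A,
        z' ∈ I.map (Algebra.TensorProduct.includeRight : A →ₐ[k] L' ⊗[k] A).toRingHom ∧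
        inclMap A z' = z := by
    have hc : ∀ c : K ⊗[k] A, ∃ s : Finset K, ∀ L' : IntermediateField L K, (↑s ⊆ (L' : Set K)) →
        ∃ c' : L' ⊗[k] A, inclMap A c' = c := by
      intro c
      induction c using TensorProduct.induction_on with
      | zero => exact ⟨∅, fun L' _ => ⟨0, map_zero _⟩⟩
      | tmul g a => exact ⟨{g}, fun L' hs => ⟨⟨g, hs (by simp)⟩ ⊗ₜ[k] a, rfl⟩⟩
      | add a b ha hb =>
        obtain ⟨s, hs⟩ := ha
        obtain ⟨r, hr⟩ := hb
        refine ⟨s ∪ r, fun L' hL => ?_⟩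
        rw [Finset.coe_union, Set.union_subset_iff] at hL
        obtain ⟨a', ha'⟩ := hs L' hL.1
        obtain ⟨b', hb'⟩ := hr L' hL.2
        exact ⟨a' + b', by rw [map_add, ha', hb']⟩
    obtain ⟨s, hs⟩ : ∃ s : Finset K, ∀ L' : IntermediateField L K, (↑s ⊆ (L' : Set K)) →
        ∃ z' : L' ⊗[k] A, z' ∈ I.map (Algebra.TensorProduct.includeRight : A →ₐ[k] L' ⊗[k] A).toRingHom ∧
          inclMap A z' = z := by
      clear h q
      rw [Ideal.map] at hz
      induction hz using Submodule.span_induction with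
      | mem c hc' =>
        obtain ⟨b, hb, rfl⟩ := hc'
        exact ⟨∅, fun L' _ => ⟨_, Ideal.mem_map_of_mem _ hb, by
          change inclMap A ((1 : L') ⊗ₜ[k] b) = (1 : K) ⊗ₜ[k] b
          rw [inclMap_tmul, map_one]⟩⟩
      | zero => exact ⟨∅, fun L' _ => ⟨0, zero_mem _, map_zero _⟩⟩
      | add a b _ _ ha hb =>
        obtain ⟨s, hs⟩ := ha
        obtain ⟨r, hr⟩ := hb
        refine ⟨s ∪ r, fun L' hL => ?_⟩
        rw [Finset.coe_union, Set.union_subset_iff] at hL
        obtain ⟨a', ha', hea⟩ := hs L' hL.1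
        obtain ⟨b', hb', heb⟩ := hr L' hL.2
        exact ⟨a' + b', add_mem ha' hb', by rw [map_add, hea, heb]⟩
      | smul a c _ hc' =>
        obtain ⟨s, hs⟩ := hc'
        obtain ⟨r, hr⟩ := hc a
        refine ⟨s ∪ r, fun L' hL => ?_⟩
        rw [Finset.coe_union, Set.union_subset_iff] at hL
        obtain ⟨c', hc'', hec⟩ := hs L' hL.1
        obtain ⟨a', hea⟩ := hr L' hL.2
        exact ⟨a' * c', Ideal.mul_mem_left _ _ hc'', by rw [map_mul, hea, hec, smul_eq_mul]⟩
    refine ⟨IntermediateField.adjoin L (s : Set K), ?_, hs _ (IntermediateField.subset_adjoin L _)⟩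
    exact IntermediateField.finiteDimensional_adjoin fun a _ => Algebra.IsIntegral.isIntegral a
  rw [← hzz'] at h
  haveI := hfin
  obtain ⟨y, hy, hymin⟩ := exists_minimal_finite (F := L) I hz' (minimal_comap_incl h)
  let xL : σ → L := fun i => ⟨x i, IntermediateField.subset_adjoin k _ ⟨i, rfl⟩⟩
  have hcomp : ∀ p : MvPolynomial σ k,
      ((MvPolynomial.aeval xL p : L) : K) = MvPolynomial.aeval x p := fun p =>
    MvPolynomial.comp_aeval_apply (f := xL) L.val p
  obtain ⟨b, hb, hbmin⟩ := exists_minimal_transcendental xL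
    (fun p p' hpp => hx.1 (by rw [← hcomp, ← hcomp, hpp]))
    (fun c => by
      obtain ⟨p, d, hpd⟩ := (IntermediateField.mem_adjoin_range_iff (F := k) (i := x) (x := (c : K))).mp c.2
      by_cases hd0 : MvPolynomial.aeval x d = 0
      · exact ⟨0, 1, one_ne_zero, Subtype.ext (by simp [hpd, hd0])⟩
      · refine ⟨p, d, fun h0 => hd0 (by rw [h0, map_zero]), Subtype.ext ?_⟩
        push_cast
        rw [hcomp, hcomp, hpd, div_mul_cancel₀ _ hd0])
    I hy hymin
  refine ⟨b, hb, ?_⟩
  convert hbmin using 1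
  rw [Ideal.comap_comap, Ideal.comap_comap]
  congr 1

end WeakFieldExtLib
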